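import Cfsg.Prelude.Def_CaseTheorems
import Cfsg.Prelude.Def_Transfer

/-!
`PRankLE` and injective homomorphisms; the control argument for subgroups whose large-rank
`p`-subgroups have their normalizers inside.
-/

namespace Cfsg.Agent.Embedded

open Subgroup

theorem pRankLE_of_injective {p k : ℕ} {G G' : Type*} [Group G] [Group G'] (f : G →* G')
    (hf : Function.Injective f) (h : PRankLE p k G') : PRankLE p k G := by
  intro A hA hAp
  rw [← card_map_of_injective (f := f) hf]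
  refine h _ ⟨⟨?_⟩⟩ ?_
  · rintro ⟨_, x, hx, rfl⟩ ⟨_, y, hy, rfl⟩
    refine Subtype.ext ?_
    change f x * f y = f y * f x
    rw [← map_mul, ← map_mul]
    exact congrArg f (congrArg Subtype.val (hA.is_comm.comm ⟨x, hx⟩ ⟨y, hy⟩))
  · rintro _ ⟨x, hx, rfl⟩
    rw [← map_pow, hAp x hx, map_one]

variable {G : Type*} [Group G]

theorem pRankLE_mono {p k : ℕ} {X Y : Subgroup G} (hXY : X ≤ Y) (h : PRankLE p k Y) :
    PRankLE p k X :=
  pRankLE_of_injective _ (inclusion_injective hXY) h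

theorem pRankLE_of_map_conj {p k : ℕ} (g : G) {X : Subgroup G}
    (h : PRankLE p k ↥(X.map (MulAut.conj g).toMonoidHom)) : PRankLE p k X :=
  pRankLE_of_injective (X.equivMapOfInjective _ (MulAut.conj g).injective).toMonoidHom
    (MulEquiv.injective _) h

/-- Every `p`-subgroup of `H` is conjugate in `H` into the given Sylow subgroup of `H`. -/
theorem exists_conj_le_sylow [Finite G] {p : ℕ} [Fact p.Prime] {H : Subgroup G} (P : Sylow p H)
    {X : Subgroup G} (hXH : X ≤ H) (hX : IsPGroup p X) :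
    ∃ h ∈ H, X.map (MulAut.conj h).toMonoidHom ≤ (P : Subgroup H).map H.subtype := by
  obtain ⟨R, hR⟩ := (hX.of_equiv (subgroupOfEquivOfLe hXH).symm).exists_le_sylow
  obtain ⟨h, hh⟩ := MulAction.exists_smul_eq H R P
  refine ⟨h, h.2, ?_⟩
  rintro _ ⟨x, hx, rfl⟩
  have h1 : (⟨x, hXH hx⟩ : H) ∈ (R : Subgroup H) := hR (mem_subgroupOf.mpr hx)
  refine ⟨h * ⟨x, hXH hx⟩ * h⁻¹, ?_, by simp⟩
  rw [← hh]
  exact ⟨_, h1, rfl⟩

/-- The normalizer of a `p`-subgroup lying in a `p`-subgroup properly bigger is properly bigger. -/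
theorem eq_of_normalizer_inf_le [Finite G] {p : ℕ} [Fact p.Prime] {X Q : Subgroup G}
    (hQ : IsPGroup p Q) (hXQ : X ≤ Q) (h : Q ⊓ normalizer (X : Set G) ≤ X) : X = Q := by
  have : Group.IsNilpotent Q := hQ.isNilpotent
  by_contra hne
  have hlt : X.subgroupOf Q < ⊤ := by
    rw [lt_top_iff_ne_top]
    intro e
    exact hne (le_antisymm hXQ (subgroupOf_eq_top.mp e))
  obtain ⟨q, hq, hqX⟩ := SetLike.exists_of_lt
    (Group.normalizerCondition_of_isNilpotent (G := Q) _ hlt)
  refine hqX (mem_subgroupOf.mpr (h ⟨q.2, ?_⟩))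
  rw [mem_normalizer_iff] at hq
  intro x
  constructor
  · intro hx
    simpa [mem_subgroupOf] using (hq ⟨x, hXQ hx⟩).mp (mem_subgroupOf.mpr hx)
  · intro hx
    have hxQ : x ∈ Q := by
      simpa [mul_assoc] using Q.mul_mem (Q.mul_mem (Q.inv_mem q.2) (hXQ hx)) q.2
    simpa [mem_subgroupOf] using (hq ⟨x, hxQ⟩).mpr (mem_subgroupOf.mpr hx)

variable {p k : ℕ} [Fact p.Prime] {H : Subgroup G} {P : Sylow p H}

/-- If `N(X) ≤ H` for the large-rank subgroups `X` of a Sylow subgroup of `H`, the same holds for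
all large-rank `p`-subgroups of `H`. -/
theorem normalizer_le_of_le [Finite G]
    (hΓ : ∀ X : Subgroup G, X ≤ (P : Subgroup H).map H.subtype → ¬ PRankLE p k ↥X →
      normalizer (X : Set G) ≤ H)
    {X : Subgroup G} (hXH : X ≤ H) (hX : IsPGroup p X) (hr : ¬ PRankLE p k ↥X) :
    normalizer (X : Set G) ≤ H := by
  obtain ⟨h, hh, hle⟩ := exists_conj_le_sylow P hXH hX
  have key := hΓ _ hle (fun hc => hr (pRankLE_of_map_conj h hc))
  intro n hn
  have h1 : h * n * h⁻¹ ∈ H := key <| by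
    rw [← map_equiv_normalizer_eq]
    exact ⟨n, hn, rfl⟩
  simpa [mul_assoc] using H.mul_mem (H.mul_mem (H.inv_mem hh) h1) hh

/-- Such a Sylow subgroup is a Sylow subgroup of the whole group. -/
theorem exists_sylow_eq [Finite G] (hP : ¬ PRankLE p k ↥(P : Subgroup H))
    (hΓ : ∀ X : Subgroup G, X ≤ (P : Subgroup H).map H.subtype → ¬ PRankLE p k ↥X →
      normalizer (X : Set G) ≤ H) :
    ∃ Q : Sylow p G, (Q : Subgroup G) = (P : Subgroup H).map H.subtype := by
  set X := (P : Subgroup H).map H.subtype with hXdef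
  obtain ⟨Q, hQ⟩ := (P.2.map H.subtype).exists_le_sylow
  refine ⟨Q, (eq_of_normalizer_inf_le Q.2 hQ ?_).symm⟩
  have hr : ¬ PRankLE p k ↥X := fun hc => hP <| pRankLE_of_injective
    ((P : Subgroup H).equivMapOfInjective H.subtype H.subtype_injective).toMonoidHom
    (MulEquiv.injective _) hc
  intro x hx
  have hxH : x ∈ H := hΓ X le_rfl hr hx.2
  have hle : (P : Subgroup H) ≤ ((Q : Subgroup G) ⊓ normalizer (X : Set G)).subgroupOf H := by
    intro y hy
    exact mem_subgroupOf.mpr ⟨hQ ⟨y, hy, rfl⟩, le_normalizer ⟨y, hy, rfl⟩⟩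
  have hp : IsPGroup p ↥(((Q : Subgroup G) ⊓ normalizer (X : Set G)).subgroupOf H) :=
    (Q.2.to_le inf_le_left).comap_subtype
  have := P.3 hp hle
  exact ⟨⟨x, hxH⟩, this ▸ mem_subgroupOf.mpr hx, rfl⟩

end Cfsg.Agent.Embedded
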